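import Groth.Agent.AlgTensorLib.Presheaf
import Mathlib.Algebra.Category.ModuleCat.Sheaf.Abelian
import Mathlib.CategoryTheory.Adjunction.Basic
import Mathlib.CategoryTheory.Sites.LeftExact

/-!
# Extension of scalars of sheaves along a central algebra
-/

set_option autoImplicit false
set_option backward.isDefEq.respectTransparency false
set_option linter.style.haveILetI false
set_option maxHeartbeats 800000

universe u

open CategoryTheory CategoryTheory.Limits AlgebraicGeometry TopologicalSpace Opposite
open scoped TensorProduct

noncomputable section

namespace Groth.Agent.AlgTensorLib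

variable {X : Scheme.{u}} (A : Sheaf (Opens.grothendieckTopology X) RingCat.{u}) (φ : X.ringCatSheaf ⟶ A)
variable [IsCentral A φ]

/-- The universal property on sections. -/
def descFun {M : X.Modules} {N : SheafOfModules.{u} A}
    (g : M ⟶ (SheafOfModules.restrictScalars φ).obj N) (U : (Opens X)ᵒᵖ) :
    T A φ M U →+ N.val.obj U :=
  TensorProduct.liftAddHom
    { toFun := fun a =>
        { toFun := fun m => (show A.obj.obj U from a) • (show N.val.obj U from (g.val.app U).hom m)
          map_zero' := by
            show (show A.obj.obj U from a) • (show N.val.obj U from (g.val.app U).hom 0) = 0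
            rw [show (show N.val.obj U from (g.val.app U).hom 0) = 0 from (g.val.app U).hom.map_zero, smul_zero]
          map_add' := fun m m' => by
            show (show A.obj.obj U from a) • (show N.val.obj U from (g.val.app U).hom (m + m')) = _
            rw [show (show N.val.obj U from (g.val.app U).hom (m + m')) =
                (show N.val.obj U from (g.val.app U).hom m) + (show N.val.obj U from (g.val.app U).hom m') from
              (g.val.app U).hom.map_add m m', smul_add] }
      map_zero' := AddMonoidHom.ext fun m => zero_smul (A.obj.obj U) (show N.val.obj U from (g.val.app U).hom m)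
      map_add' := fun a a' => AddMonoidHom.ext fun m =>
        add_smul (show A.obj.obj U from a) (show A.obj.obj U from a') (show N.val.obj U from (g.val.app U).hom m) }
    fun s a m => by
      let c : A.obj.obj U := (φ.hom.app U).hom s
      show (c * (show A.obj.obj U from a)) • (show N.val.obj U from (g.val.app U).hom m) =
        (show A.obj.obj U from a) • (show N.val.obj U from (g.val.app U).hom (s • m))
      rw [show (show N.val.obj U from (g.val.app U).hom (s • m)) =
          c • (show N.val.obj U from (g.val.app U).hom m) from (g.val.app U).hom.map_smul s m, ← mul_smul]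
      exact congrArg (· • _) (IsCentral.comm (φ := φ) U s (show A.obj.obj U from a))

/-- The universal property. -/
def desc {M : X.Modules} {N : SheafOfModules.{u} A} (g : M ⟶ (SheafOfModules.restrictScalars φ).obj N) :
    PT A φ M ⟶ (SheafOfModules.forget A ⋙ PresheafOfModules.restrictScalars (𝟙 A.obj)).obj N :=
  PresheafOfModules.homMk
    { app := fun U => AddCommGrpCat.ofHom (descFun A φ g U)
      naturality := fun U V r => AddCommGrpCat.hom_ext (DFunLike.ext _ _ fun z => by
        show descFun A φ g V (tmap A φ M r z) = (N.val.map r).hom (descFun A φ g U z)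
        induction (show T A φ M U from z) using TensorProduct.induction_on with
        | zero =>
          rw [map_zero, map_zero, map_zero]
          exact ((N.val.map r).hom.map_zero).symm
        | tmul a m =>
          rw [tmap_tmul]
          show (show A.obj.obj V from A.obj.map r a) •
              (show N.val.obj V from (g.val.app V).hom (M.val.map r m)) =
            (N.val.map r).hom ((show A.obj.obj U from a) • (show N.val.obj U from (g.val.app U).hom m))
          refine Eq.trans ?_ (N.val.map_smul r (show A.obj.obj U from a) _).symm
          exact congrArg ((show A.obj.obj V from A.obj.map r a) • ·) (PresheafOfModules.naturality_apply g.val r m)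
        | add p q hp hq =>
          rw [map_add, map_add, hp, hq, map_add]
          exact ((N.val.map r).hom.map_add _ _).symm) }
    fun U s z => by
      show descFun A φ g U ((show Alg A φ U from s) • (show T A φ M U from z)) =
        s • (show N.val.obj U from descFun A φ g U z)
      induction (show T A φ M U from z) using TensorProduct.induction_on with
      | zero =>
        rw [smul_zero, map_zero]
        exact (smul_zero (A := N.val.obj U) s).symm
      | tmul a m =>
        rw [smul_tmul']
        exact mul_smul s (show A.obj.obj U from a) _
      | add p q hp hq =>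
        rw [smul_add, map_add, hp, hq, map_add]
        exact (smul_add s _ _).symm

/-- Restriction of a morphism along the unit. -/
def undesc {M : X.Modules} {N : SheafOfModules.{u} A}
    (f : PT A φ M ⟶ (SheafOfModules.forget A ⋙ PresheafOfModules.restrictScalars (𝟙 A.obj)).obj N) :
    M ⟶ (SheafOfModules.restrictScalars φ).obj N :=
  ⟨PresheafOfModules.homMk
    { app := fun U => AddCommGrpCat.ofHom
        { toFun := fun m => (show N.val.obj U from
            (f.app U).hom ((1 : Alg A φ U) ⊗ₜ[Γ(X, U.unop)] (show Γ(M, U.unop) from m) : T A φ M U))
          map_zero' := by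
            show (show N.val.obj U from (f.app U).hom ((1 : Alg A φ U) ⊗ₜ[Γ(X, U.unop)] (0 : Γ(M, U.unop)) : T A φ M U)) = 0
            rw [TensorProduct.tmul_zero]
            exact (f.app U).hom.map_zero
          map_add' := fun m m' => by
            refine Eq.trans ?_ ((f.app U).hom.map_add _ _)
            exact congrArg (f.app U).hom (TensorProduct.tmul_add (1 : Alg A φ U) (show Γ(M, U.unop) from m) m') }
      naturality := fun U V r => AddCommGrpCat.hom_ext (DFunLike.ext _ _ fun m => by
        refine Eq.trans ?_ (PresheafOfModules.naturality_apply f r
          ((1 : Alg A φ U) ⊗ₜ[Γ(X, U.unop)] (show Γ(M, U.unop) from m) : T A φ M U))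
        refine congrArg (f.app V).hom ?_
        show (1 : Alg A φ V) ⊗ₜ[Γ(X, V.unop)] mmap M r m = tmap A φ M r ((1 : Alg A φ U) ⊗ₜ[Γ(X, U.unop)] m)
        rw [tmap_tmul, map_one]) }
    fun U s m => by
      show (f.app U).hom ((1 : Alg A φ U) ⊗ₜ[Γ(X, U.unop)] ((show Γ(X, U.unop) from s) • (show Γ(M, U.unop) from m))) =
        (show A.obj.obj U from (φ.hom.app U).hom s) •
          (show N.val.obj U from (f.app U).hom ((1 : Alg A φ U) ⊗ₜ[Γ(X, U.unop)] (show Γ(M, U.unop) from m) : T A φ M U))
      refine Eq.trans (congrArg (f.app U).hom ?_) ((f.app U).hom.map_smul (show A.obj.obj U from (φ.hom.app U).hom s) _)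
      rw [← TensorProduct.smul_tmul (show Γ(X, U.unop) from s) (1 : Alg A φ U) (show Γ(M, U.unop) from m)]
      exact (congrArg (· ⊗ₜ[Γ(X, U.unop)] _) (Algebra.smul_def (show Γ(X, U.unop) from s) (1 : Alg A φ U))).trans
        (smul_tmul' A φ M (U := U) _ _ _).symm⟩

/-- The adjunction on presheaves. -/
def preEquiv (M : X.Modules) (N : SheafOfModules.{u} A) :
    (PT A φ M ⟶ (SheafOfModules.forget A ⋙ PresheafOfModules.restrictScalars (𝟙 A.obj)).obj N) ≃
      (M ⟶ (SheafOfModules.restrictScalars φ).obj N) where
  toFun f := undesc A φ f
  invFun g := desc A φ g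
  left_inv f := PTmap_ext A φ fun U m => one_smul (A.obj.obj U) _
  right_inv g := SheafOfModules.hom_ext (PresheafOfModules.hom_ext fun U =>
    ModuleCat.hom_ext (LinearMap.ext fun m => one_smul (A.obj.obj U) (show N.val.obj U from (g.val.app U).hom m)))

/-- Extension of scalars. -/
def extend : X.Modules ⥤ SheafOfModules.{u} A :=
  ptFunctor A φ ⋙ PresheafOfModules.sheafification (𝟙 A.obj)

/-- Extension of scalars is left adjoint to restriction. -/
def extendAdj : extend A φ ⊣ SheafOfModules.restrictScalars φ :=
  Adjunction.mkOfHomEquiv
    { homEquiv := fun M N => ((PresheafOfModules.sheafificationAdjunction (𝟙 A.obj)).homEquiv (PT A φ M) N).trans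
        (preEquiv A φ M N)
      homEquiv_naturality_left_symm := fun {M' M N} f g => by
        show ((PresheafOfModules.sheafificationAdjunction (𝟙 A.obj)).homEquiv (PT A φ M') N).symm
            (desc A φ (f ≫ g)) =
          (PresheafOfModules.sheafification (𝟙 A.obj)).map (PTmap A φ f) ≫
            ((PresheafOfModules.sheafificationAdjunction (𝟙 A.obj)).homEquiv (PT A φ M) N).symm (desc A φ g)
        rw [← Adjunction.homEquiv_naturality_left_symm]
        refine congrArg _ (PTmap_ext A φ fun U m => ?_)
        exact (one_smul (A.obj.obj U) _).trans (one_smul (A.obj.obj U) _).symm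
      homEquiv_naturality_right := fun {M N N'} f g => by
        show undesc A φ ((PresheafOfModules.sheafificationAdjunction (𝟙 A.obj)).homEquiv (PT A φ M) N' (f ≫ g)) =
          undesc A φ ((PresheafOfModules.sheafificationAdjunction (𝟙 A.obj)).homEquiv (PT A φ M) N f) ≫
            (SheafOfModules.restrictScalars φ).map g
        rw [Adjunction.homEquiv_naturality_right]
        exact SheafOfModules.hom_ext (PresheafOfModules.hom_ext fun U =>
          ModuleCat.hom_ext (LinearMap.ext fun m => rfl)) }

end Groth.Agent.AlgTensorLib
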