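import Mathlib.Algebra.Homology.DerivedCategory.Ext.ExactSequences
import Mathlib.Algebra.Homology.DerivedCategory.Ext.EnoughInjectives
import Mathlib.Algebra.Homology.DerivedCategory.Ext.Map
import Mathlib.CategoryTheory.Adjunction.Basic

/-!
# Ext along an exact right adjoint preserving injectives
-/

set_option autoImplicit false
set_option backward.isDefEq.respectTransparency false
set_option linter.style.haveILetI false

universe w v v' u u'

open CategoryTheory CategoryTheory.Limits CategoryTheory.Abelian

noncomputable section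

namespace Groth.Agent.AlgTensorLib

variable {C : Type u} [Category.{v} C] [Abelian C] {D : Type u'} [Category.{v'} D] [Abelian D]
  [HasExt.{w} C] [HasExt.{w} D] [EnoughInjectives C]
  (R : C ⥤ D) [R.Additive] [PreservesFiniteLimits R] [PreservesFiniteColimits R]
  {L : D ⥤ C} (adj : L ⊣ R) (hR : ∀ (I : C) [Injective I], Injective (R.obj I))

/-- The comparison of Ext groups. -/
def extMap (M : D) {N : C} {i : ℕ} (e : Ext.{w} (L.obj M) N i) : Ext.{w} M (R.obj N) i :=
  (Ext.mk₀ (adj.unit.app M)).comp (e.mapExactFunctor R) (zero_add i)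

theorem extMap_comp (M : D) {N N' : C} {a b c : ℕ} (e : Ext.{w} (L.obj M) N a) (f : Ext.{w} N N' b) (h : a + b = c) :
    extMap R adj M (e.comp f h) = (extMap R adj M e).comp (f.mapExactFunctor R) h := by
  rw [extMap, extMap, Ext.mapExactFunctor_comp]
  exact (Ext.comp_assoc _ _ _ (zero_add a) h (show 0 + a + b = c by omega)).symm

theorem extMap_zero (M : D) (N : C) (i : ℕ) : extMap R adj M (0 : Ext.{w} (L.obj M) N i) = 0 := by
  rw [extMap, Ext.mapExactFunctor_zero, Ext.comp_zero]

theorem extMap_add (M : D) {N : C} {i : ℕ} (e e' : Ext.{w} (L.obj M) N i) :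
    extMap R adj M (e + e') = extMap R adj M e + extMap R adj M e' := by
  rw [extMap, extMap, extMap, Ext.mapExactFunctor_add, Ext.comp_add]

include hR in
theorem bijective_extMap (M : D) : ∀ (i : ℕ) (N : C),
    Function.Bijective (extMap R adj M : Ext.{w} (L.obj M) N i → Ext.{w} M (R.obj N) i)
  | 0, N => by
    have e : (extMap R adj M : Ext.{w} (L.obj M) N 0 → _) =
        Ext.homEquiv₀.symm ∘ adj.homEquiv M N ∘ Ext.homEquiv₀ := by
      funext x
      obtain ⟨f, rfl⟩ := (Ext.mk₀_bijective _ _).2 x
      rw [extMap, Ext.mapExactFunctor_mk₀, Ext.mk₀_comp_mk₀]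
      simp [Ext.homEquiv₀, Adjunction.homEquiv_unit]
    rw [e]
    exact Ext.homEquiv₀.symm.bijective.comp ((adj.homEquiv M N).bijective.comp Ext.homEquiv₀.bijective)
  | i + 1, N => by
    let S : ShortComplex C :=
      ShortComplex.mk (Injective.ι N) (cokernel.π (Injective.ι N)) (cokernel.condition _)
    have hS : S.ShortExact :=
      ShortComplex.ShortExact.mk' (ShortComplex.exact_of_g_is_cokernel _ (cokernelIsCokernel _))
        (inferInstanceAs (Mono (Injective.ι N))) (inferInstanceAs (Epi (cokernel.π (Injective.ι N))))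
    haveI : Injective S.X₂ := inferInstanceAs (Injective (Injective.under N))
    haveI : Injective (S.map R).X₂ := hR S.X₂
    have hδ : ∀ e : Ext.{w} (L.obj M) S.X₃ i, extMap R adj M (e.comp hS.extClass rfl) =
        (extMap R adj M e).comp (hS.map_of_exact R).extClass rfl := fun e => by
      rw [extMap_comp, Ext.mapExactFunctor_extClass]
    constructor
    · intro x y hxy
      obtain ⟨e, he⟩ := Ext.covariant_sequence_exact₁ _ hS (x - y) (Ext.eq_zero_of_injective _) rfl
      have h0 : extMap R adj M (x - y) = 0 := by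
        have h1 := extMap_add R adj M (x - y) y
        rw [sub_add_cancel, hxy] at h1
        exact left_eq_add.1 (h1.trans (add_comm _ _)) 
      rw [← he, hδ] at h0
      obtain ⟨w', hw⟩ := Ext.covariant_sequence_exact₃ _ (hS.map_of_exact R) (extMap R adj M e) rfl h0
      obtain ⟨w₀, rfl⟩ := (bijective_extMap M i S.X₂).2 w'
      have h2 : extMap R adj M (w₀.comp (Ext.mk₀ S.g) (add_zero i)) = extMap R adj M e := by
        rw [extMap_comp, Ext.mapExactFunctor_mk₀]
        exact hw
      rw [← sub_eq_zero, ← he, ← (bijective_extMap M i S.X₃).1 h2,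
        Ext.comp_assoc_of_second_deg_zero, ShortComplex.ShortExact.comp_extClass, Ext.comp_zero]
    · intro y
      obtain ⟨z, hz⟩ := Ext.covariant_sequence_exact₁ _ (hS.map_of_exact R) y (Ext.eq_zero_of_injective _) rfl
      obtain ⟨e, rfl⟩ := (bijective_extMap M i S.X₃).2 z
      exact ⟨e.comp hS.extClass rfl, (hδ e).trans hz⟩

end Groth.Agent.AlgTensorLib
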