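import Groth.Agent.AlgTensorLib.Adjoint
import Groth.Prelude.Def_CohB1
import Groth.Prelude.Def_FlatMod2
import Groth.Agent.DCohLib.StalkTensor
import Mathlib.RingTheory.Flat.Stability

/-!
# Extension of scalars of a flat module to a flat algebra is flat
-/

set_option autoImplicit false
set_option backward.isDefEq.respectTransparency false
set_option linter.style.haveILetI false
set_option maxHeartbeats 800000

universe u

open CategoryTheory CategoryTheory.Limits AlgebraicGeometry TopologicalSpace Opposite MonoidalCategory
open scoped TensorProduct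

noncomputable section

namespace Groth.Agent.AlgTensorLib

variable {X : Scheme.{u}} (A : Sheaf (Opens.grothendieckTopology X) RingCat.{u}) (φ : X.ringCatSheaf ⟶ A)
variable [IsCentral A φ]

/-- The algebra as a module. -/
abbrev algMod : X.Modules := (SheafOfModules.restrictScalars φ).obj (SheafOfModules.unit A)

/-- On sections, the algebra is the module. -/
def algEquiv (U : (Opens X)ᵒᵖ) : Γ(algMod A φ, U.unop) ≃ₗ[Γ(X, U.unop)] Alg A φ U :=
  { AddEquiv.refl _ with
    map_smul' := fun r s => (Algebra.smul_def (show Γ(X, U.unop) from r) (show Alg A φ U from s)).symm }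

/-- The sectionwise tensor product is extension of scalars. -/
def preIso (M : X.Modules) (U : (Opens X)ᵒᵖ) :
    (Γ(algMod A φ, U.unop) ⊗[Γ(X, U.unop)] Γ(M, U.unop)) ≃ₗ[Γ(X, U.unop)] T A φ M U :=
  TensorProduct.congr (algEquiv A φ U) (LinearEquiv.refl _ _)

/-- The comparison of presheaves. -/
def preMap (M : X.Modules) :
    (show X.PresheafOfModules from CohB1.tensorPre (algMod A φ) M) ⟶
      (PresheafOfModules.restrictScalars φ.hom).obj (PT A φ M) :=
  PresheafOfModules.homMk
    { app := fun U => AddCommGrpCat.ofHom (preIso A φ M U).toAddMonoidHom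
      naturality := fun U V r => AddCommGrpCat.hom_ext (DFunLike.ext _ _ fun z => by
        induction (show Γ(algMod A φ, U.unop) ⊗[Γ(X, U.unop)] Γ(M, U.unop) from z) using TensorProduct.induction_on with
        | zero => exact (map_zero _).trans (map_zero _).symm
        | tmul a m => rfl
        | add p q hp hq => exact ((map_add _ p q).trans (congrArg₂ (· + ·) hp hq)).trans (map_add _ p q).symm) }
    fun U s z => by
      show preIso A φ M U ((show Γ(X, U.unop) from s) •
          (show Γ(algMod A φ, U.unop) ⊗[Γ(X, U.unop)] Γ(M, U.unop) from z)) =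
        (show Alg A φ U from (φ.hom.app U).hom s) • (show T A φ M U from preIso A φ M U z)
      rw [map_smul]
      exact (algebra_compatible_smul (Alg A φ U) (show Γ(X, U.unop) from s) _)

/-- Extension of scalars, as a module, is the tensor product. -/
theorem nonempty_tensor_iso (M : X.Modules) :
    Nonempty (CohB1.tensorMod (algMod A φ) M ≅ (SheafOfModules.restrictScalars φ).obj ((extend A φ).obj M)) := by
  let η := (PresheafOfModules.sheafificationAdjunction (𝟙 A.obj)).unit.app (PT A φ M)
  let f : (show X.PresheafOfModules from CohB1.tensorPre (algMod A φ) M) ⟶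
      (SheafOfModules.forget X.ringCatSheaf ⋙ PresheafOfModules.restrictScalars (𝟙 X.ringCatSheaf.obj)).obj
        ((SheafOfModules.restrictScalars φ).obj ((extend A φ).obj M)) :=
    preMap A φ M ≫ (PresheafOfModules.restrictScalars φ.hom).map η
  let c := ((PresheafOfModules.sheafificationAdjunction (𝟙 X.ringCatSheaf.obj)).homEquiv _ _).symm f
  let e : (show X.PresheafOfModules from CohB1.tensorPre (algMod A φ) M).presheaf ⟶ TAb A φ M :=
    (PresheafOfModules.toPresheaf _).map (preMap A φ M)
  haveI : ∀ U, IsIso (e.app U) := fun U => by
    rw [ConcreteCategory.isIso_iff_bijective]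
    exact (preIso A φ M U).bijective
  haveI : IsIso e := NatIso.isIso_of_isIso_app e
  haveI : IsIso c := by
    haveI : IsIso ((SheafOfModules.toSheaf X.ringCatSheaf).map c) := by
      have h : (SheafOfModules.toSheaf X.ringCatSheaf).map c =
          (presheafToSheaf (Opens.grothendieckTopology X) AddCommGrpCat.{u}).map e := by
        apply Sheaf.hom_ext
        apply sheafify_hom_ext _ _ _ ((presheafToSheaf (Opens.grothendieckTopology X) AddCommGrpCat.{u}).obj _).property
        have h1 := PresheafOfModules.toPresheaf_map_sheafificationHomEquiv_def (𝟙 X.ringCatSheaf.obj) c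
        rw [← PresheafOfModules.sheafificationAdjunction_homEquiv_apply, Equiv.apply_symm_apply] at h1
        refine h1.symm.trans ?_
        exact toSheafify_naturality (Opens.grothendieckTopology X) e
      rw [h]
      infer_instance
    exact isIso_of_reflects_iso c (SheafOfModules.toSheaf X.ringCatSheaf)
  exact ⟨asIso c⟩

/-- Flatness. -/
theorem flat_extend (hA : FlatMod.IsFlat (algMod A φ)) {M : X.Modules} (hM : FlatMod.IsFlat M) :
    FlatMod.IsFlat (X := X) ((SheafOfModules.restrictScalars φ).obj ((extend A φ).obj M)) := by
  intro x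
  obtain ⟨c⟩ := nonempty_tensor_iso A φ M
  haveI : Module.Flat (X.presheaf.stalk x) ((algMod A φ).presheaf.stalk x) := hA x
  haveI : Module.Flat (X.presheaf.stalk x) (M.presheaf.stalk x) := hM x
  let l := LinearEquiv.ofBijective (PullbackMod.stalkLin c.hom x) ((PullbackMod.isIso_iff_stalk c.hom).1 inferInstance x)
  exact Module.Flat.of_linearEquiv ((DCohLib.stalkTensor x (algMod A φ) M).trans l).symm

end Groth.Agent.AlgTensorLib
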