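import Groth.Prelude.Def_FlatMod2
import Groth.Agent.AlgTensorLib.Adjoint
import Groth.Agent.FinCovLib.Frame
import Groth.Agent.DegDevLib.Frame
import Groth.Agent.S10866
import Mathlib.CategoryTheory.Adjunction.FullyFaithful
import Mathlib.RingTheory.Flat.Basic
import Mathlib.CategoryTheory.Preadditive.Injective.Basic

/-!
# Extension of scalars to a locally free algebra is exact
-/

set_option autoImplicit false
set_option backward.isDefEq.respectTransparency false
set_option linter.style.haveILetI false
set_option maxHeartbeats 800000

universe u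

open CategoryTheory CategoryTheory.Limits AlgebraicGeometry TopologicalSpace Opposite
open scoped TensorProduct

noncomputable section

namespace Groth.Agent.AlgTensorLib

variable {X : Scheme.{u}} (A : Sheaf (Opens.grothendieckTopology X) RingCat.{u}) (φ : X.ringCatSheaf ⟶ A)
variable [IsCentral A φ]

instance algebraOp (W : X.Opens) : Algebra Γ(X, W) (Alg A φ (op W)) := algebra A φ (op W)

/-- Inside a frame the sections of the algebra are free. -/
theorem flat_sections {n : ℕ} {U : X.Opens}
    {f : Fin n → Γ(((SheafOfModules.restrictScalars φ).obj (SheafOfModules.unit A) : X.Modules), U)}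
    (hf : DegDevLib.IsFrame (E := ((SheafOfModules.restrictScalars φ).obj (SheafOfModules.unit A) : X.Modules)) U f)
    {W : X.Opens} (h : W ≤ U) : Module.Flat Γ(X, W) (Alg A φ (op W)) := by
  let E : X.Modules := (SheafOfModules.restrictScalars φ).obj (SheafOfModules.unit A)
  let e₀ : Alg A φ (op W) ≃ₗ[Γ(X, W)] Γ(E, W) :=
    { AddEquiv.refl _ with
      map_smul' := fun r s => (Algebra.smul_def (show Γ(X, (op W).unop) from r) (show Alg A φ (op W) from s)) }
  exact Module.Flat.of_linearEquiv (e₀.trans (LinearEquiv.ofBijective _ (hf.res h).bijective).symm)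

/-- Extension of scalars preserves monomorphisms. -/
theorem mono_extend_map (hA : FlatMod.IsFinLocFree (X := X) ((SheafOfModules.restrictScalars φ).obj (SheafOfModules.unit A)))
    {M M' : X.Modules} (g : M ⟶ M') [Mono g] : Mono ((extend A φ).map g) := by
  refine (SheafOfModules.toSheaf A).mono_of_mono_map ?_
  haveI : Presheaf.IsLocallyInjective (Opens.grothendieckTopology X)
      ((PresheafOfModules.toPresheaf A.obj).map (PTmap A φ g)) := ⟨fun {U} x y hxy => by
    intro p hp
    obtain ⟨V, n, hpV, ⟨e⟩⟩ := hA p
    obtain ⟨σ, hσ⟩ := FinCovLib.exists_isFrame_of_iso e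
    refine ⟨U.unop ⊓ V, homOfLE inf_le_left, ?_, hp, hpV⟩
    let W : (Opens X)ᵒᵖ := op (U.unop ⊓ V)
    let r : U ⟶ W := (homOfLE inf_le_left).op
    haveI := flat_sections A φ hσ (W := W.unop) inf_le_right
    have hinj : Function.Injective (tapp A φ g W) := by
      have := Module.Flat.lTensor_preserves_injective_linearMap (R := Γ(X, W.unop)) (M := Alg A φ W)
        ({ toFun := g.app W.unop
           map_add' := map_add _
           map_smul' := fun s m => (g.val.app W).hom.map_smul s m } : Γ(M, W.unop) →ₗ[Γ(X, W.unop)] Γ(M', W.unop))
        (S10866.injective_app g W.unop)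
      exact this
    show tmap A φ M r x = tmap A φ M r y
    apply hinj
    have nat : ∀ z : T A φ M U, tapp A φ g W (tmap A φ M r z) = tmap A φ M' r (tapp A φ g U z) := fun z =>
      ConcreteCategory.congr_hom (((PresheafOfModules.toPresheaf A.obj).map (PTmap A φ g)).naturality r) z
    exact (nat x).trans ((congrArg (tmap A φ M' r) hxy).trans (nat y).symm)⟩
  haveI : Sheaf.IsLocallyInjective ((presheafToSheaf (Opens.grothendieckTopology X) AddCommGrpCat.{u}).map
      ((PresheafOfModules.toPresheaf A.obj).map (PTmap A φ g))) :=
    (Presheaf.isLocallyInjective_presheafToSheaf_map_iff _ _).2 inferInstance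
  exact Sheaf.mono_of_isLocallyInjective
    ((presheafToSheaf (Opens.grothendieckTopology X) AddCommGrpCat.{u}).map
      ((PresheafOfModules.toPresheaf A.obj).map (PTmap A φ g)))

theorem preservesMonomorphisms_extend
    (hA : FlatMod.IsFinLocFree (X := X) ((SheafOfModules.restrictScalars φ).obj (SheafOfModules.unit A))) :
    (extend A φ).PreservesMonomorphisms :=
  ⟨fun g _ => mono_extend_map A φ hA g⟩

/-- Restriction of scalars along a locally free algebra preserves injectives. -/
theorem injective_restrict (hA : FlatMod.IsFinLocFree (X := X) ((SheafOfModules.restrictScalars φ).obj (SheafOfModules.unit A)))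
    (I : SheafOfModules.{u} A) [Injective I] : Injective ((SheafOfModules.restrictScalars φ).obj I) := by
  haveI := preservesMonomorphisms_extend A φ hA
  exact (extendAdj A φ).map_injective I inferInstance

end Groth.Agent.AlgTensorLib
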