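import Mathlib.AlgebraicGeometry.Modules.Sheaf
import Mathlib.Algebra.Category.ModuleCat.Sheaf.ChangeOfRings
import Mathlib.Algebra.Category.ModuleCat.Presheaf.Sheafification
import Mathlib.LinearAlgebra.TensorProduct.Tower

/-!
# Extension of scalars to a sheaf of central algebras
-/

set_option autoImplicit false
set_option backward.isDefEq.respectTransparency false
set_option linter.style.haveILetI false
set_option maxHeartbeats 800000

universe u

open CategoryTheory CategoryTheory.Limits AlgebraicGeometry TopologicalSpace Opposite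
open scoped TensorProduct

noncomputable section

namespace Groth.Agent.AlgTensorLib

variable {X : Scheme.{u}} (A : Sheaf (Opens.grothendieckTopology X) RingCat.{u}) (φ : X.ringCatSheaf ⟶ A)

/-- A sheaf of central algebras. -/
class IsCentral : Prop where
  comm : ∀ (U : (Opens X)ᵒᵖ) (s : X.ringCatSheaf.obj.obj U) (a : A.obj.obj U),
    φ.hom.app U s * a = a * φ.hom.app U s

/-- The structure map on sections. -/
def str0 (U : (Opens X)ᵒᵖ) : (Γ(X, U.unop) : Type u) →+* A.obj.obj U := (φ.hom.app U).hom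

/-- The sections of `A`, as an algebra. -/
@[nolint unusedArguments]
def Alg (_φ : X.ringCatSheaf ⟶ A) (U : (Opens X)ᵒᵖ) : Type u := A.obj.obj U

instance (U : (Opens X)ᵒᵖ) : Ring (Alg A φ U) := inferInstanceAs (Ring (A.obj.obj U))

variable [hc : IsCentral A φ]

instance algebra (U : (Opens X)ᵒᵖ) : Algebra (Γ(X, U.unop)) (Alg A φ U) :=
  RingHom.toAlgebra' (str0 A φ U : Γ(X, U.unop) →+* Alg A φ U) (hc.comm U)

variable (M : X.Modules)

/-- The tensor product on sections. -/
abbrev T (U : (Opens X)ᵒᵖ) : Type u := Alg A φ U ⊗[Γ(X, U.unop)] Γ(M, U.unop)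

/-- Restriction of `A`. -/
def amap {U V : (Opens X)ᵒᵖ} (r : U ⟶ V) : Alg A φ U →+* Alg A φ V := (A.obj.map r).hom

/-- Restriction of `M`. -/
def mmap {U V : (Opens X)ᵒᵖ} (r : U ⟶ V) : Γ(M, U.unop) →+ Γ(M, V.unop) := (M.presheaf.map r).hom

theorem amap_smul {U V : (Opens X)ᵒᵖ} (r : U ⟶ V) (s : Γ(X, U.unop)) (a : Alg A φ U) :
    amap A φ r (s • a) = (show Γ(X, V.unop) from X.presheaf.map r s) • amap A φ r a := by
  have h : amap A φ r (algebraMap Γ(X, U.unop) (Alg A φ U) s) =
      algebraMap Γ(X, V.unop) (Alg A φ V) (show Γ(X, V.unop) from X.presheaf.map r s) :=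
    (ConcreteCategory.congr_hom (φ.hom.naturality r) s).symm
  rw [Algebra.smul_def, Algebra.smul_def, map_mul, h]

theorem mmap_smul {U V : (Opens X)ᵒᵖ} (r : U ⟶ V) (s : Γ(X, U.unop)) (m : Γ(M, U.unop)) :
    mmap M r (s • m) = (show Γ(X, V.unop) from X.presheaf.map r s) • mmap M r m :=
  (M.val.map r).hom.map_smul s m

/-- Restriction on tensor products. -/
def tmap {U V : (Opens X)ᵒᵖ} (r : U ⟶ V) : T A φ M U →+ T A φ M V :=
  TensorProduct.liftAddHom
    { toFun := fun a =>
        { toFun := fun m => amap A φ r a ⊗ₜ[Γ(X, V.unop)] mmap M r m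
          map_zero' := by rw [map_zero, TensorProduct.tmul_zero]
          map_add' := fun m m' => by rw [map_add, TensorProduct.tmul_add] }
      map_zero' := AddMonoidHom.ext fun m => by
        show amap A φ r 0 ⊗ₜ[Γ(X, V.unop)] mmap M r m = 0
        rw [map_zero, TensorProduct.zero_tmul]
      map_add' := fun a a' => AddMonoidHom.ext fun m => by
        show amap A φ r (a + a') ⊗ₜ[Γ(X, V.unop)] mmap M r m = _
        rw [map_add, TensorProduct.add_tmul]
        rfl }
    fun s a m => by
      show amap A φ r (s • a) ⊗ₜ[Γ(X, V.unop)] mmap M r m = amap A φ r a ⊗ₜ[Γ(X, V.unop)] mmap M r (s • m)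
      rw [amap_smul, mmap_smul, TensorProduct.smul_tmul]

theorem tmap_tmul {U V : (Opens X)ᵒᵖ} (r : U ⟶ V) (a : Alg A φ U) (m : Γ(M, U.unop)) :
    tmap A φ M r (a ⊗ₜ[Γ(X, U.unop)] m) = amap A φ r a ⊗ₜ[Γ(X, V.unop)] mmap M r m := rfl

/-- The underlying presheaf of abelian groups. -/
def TAb : (Opens X)ᵒᵖ ⥤ Ab.{u} where
  obj U := AddCommGrpCat.of (T A φ M U)
  map r := AddCommGrpCat.ofHom (tmap A φ M r)
  map_id U := AddCommGrpCat.hom_ext (DFunLike.ext _ _ fun z => by
    show tmap A φ M (𝟙 U) z = z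
    induction z using TensorProduct.induction_on with
    | zero => exact map_zero _
    | tmul a m => rw [tmap_tmul, amap, mmap, A.obj.map_id, M.presheaf.map_id]; rfl
    | add p q hp hq => rw [map_add, hp, hq])
  map_comp {U V W} r r' := AddCommGrpCat.hom_ext (DFunLike.ext _ _ fun z => by
    show tmap A φ M (r ≫ r') z = tmap A φ M r' (tmap A φ M r z)
    induction z using TensorProduct.induction_on with
    | zero => simp
    | tmul a m => simp only [tmap_tmul, amap, mmap, A.obj.map_comp, M.presheaf.map_comp]; rfl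
    | add p q hp hq => rw [map_add, map_add, map_add, hp, hq])

instance moduleTAb (U : (Opens X)ᵒᵖ) : Module (A.obj.obj U) ((TAb A φ M).obj U) :=
  inferInstanceAs (Module (Alg A φ U) (T A φ M U))

theorem smul_tmul' {U : (Opens X)ᵒᵖ} (r : A.obj.obj U) (a : Alg A φ U) (m : Γ(M, U.unop)) :
    (show Alg A φ U from r) • (a ⊗ₜ[Γ(X, U.unop)] m) =
      ((show Alg A φ U from r) * a) ⊗ₜ[Γ(X, U.unop)] m :=
  TensorProduct.smul_tmul' _ _ _

/-- Extension of scalars, as a presheaf. -/
def PT : PresheafOfModules.{u} A.obj :=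
  PresheafOfModules.ofPresheaf (R := A.obj) (TAb A φ M) fun {U V} r s z => by
    show tmap A φ M r ((show Alg A φ U from s) • (show T A φ M U from z)) =
      (show Alg A φ V from A.obj.map r s) • tmap A φ M r z
    induction (show T A φ M U from z) using TensorProduct.induction_on with
    | zero => simp
    | tmul a m =>
      rw [smul_tmul', tmap_tmul, tmap_tmul, smul_tmul']
      exact congrArg (· ⊗ₜ[Γ(X, V.unop)] _) (map_mul (A.obj.map r).hom _ _)
    | add p q hp hq => rw [smul_add, map_add, hp, hq, map_add, smul_add]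

variable {M} {M' : X.Modules}

/-- Functoriality on sections. -/
def tapp (f : M ⟶ M') (U : (Opens X)ᵒᵖ) : T A φ M U →ₗ[Alg A φ U] T A φ M' U :=
  TensorProduct.AlgebraTensorModule.map LinearMap.id
    { toFun := f.app U.unop
      map_add' := map_add _
      map_smul' := fun s m => by
        show (f.val.app U).hom (s • m) = _
        exact (f.val.app U).hom.map_smul s m }

theorem tapp_tmul (f : M ⟶ M') (U : (Opens X)ᵒᵖ) (a : Alg A φ U) (m : Γ(M, U.unop)) :
    tapp A φ f U (a ⊗ₜ[Γ(X, U.unop)] m) = a ⊗ₜ[Γ(X, U.unop)] f.app U.unop m := rfl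

/-- Extension of scalars of a morphism. -/
def PTmap (f : M ⟶ M') : PT A φ M ⟶ PT A φ M' :=
  PresheafOfModules.homMk
    { app := fun U => AddCommGrpCat.ofHom (tapp A φ f U).toAddMonoidHom
      naturality := fun U V r => AddCommGrpCat.hom_ext (DFunLike.ext _ _ fun z => by
        show tapp A φ f V (tmap A φ M r z) = tmap A φ M' r (tapp A φ f U z)
        induction (show T A φ M U from z) using TensorProduct.induction_on with
        | zero => simp
        | tmul a m =>
          rw [tapp_tmul, tmap_tmul, tmap_tmul, tapp_tmul]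
          exact congrArg (_ ⊗ₜ[Γ(X, V.unop)] ·) (ConcreteCategory.congr_hom (f.mapPresheaf.naturality r) m)
        | add p q hp hq => rw [map_add, map_add, hp, hq, map_add, map_add]) }
    fun U s z => (tapp A φ f U).map_smul s z

theorem PTmap_ext {F : PresheafOfModules.{u} A.obj} {g g' : PT A φ M ⟶ F}
    (h : ∀ (U : (Opens X)ᵒᵖ) (m : Γ(M, U.unop)),
      (g.app U).hom ((1 : Alg A φ U) ⊗ₜ[Γ(X, U.unop)] m : T A φ M U) =
        (g'.app U).hom ((1 : Alg A φ U) ⊗ₜ[Γ(X, U.unop)] m : T A φ M U)) : g = g' := by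
  refine PresheafOfModules.hom_ext fun U => ModuleCat.hom_ext (LinearMap.ext fun z => ?_)
  induction (show T A φ M U from z) using TensorProduct.induction_on with
  | zero => exact (g.app U).hom.map_zero.trans (g'.app U).hom.map_zero.symm
  | tmul a m =>
    have e : (a ⊗ₜ[Γ(X, U.unop)] m : T A φ M U) =
        a • ((1 : Alg A φ U) ⊗ₜ[Γ(X, U.unop)] m : T A φ M U) := by
      rw [TensorProduct.smul_tmul', smul_eq_mul, mul_one]
    rw [e]
    exact ((g.app U).hom.map_smul a _).trans ((congrArg (a • ·) (h U m)).trans ((g'.app U).hom.map_smul a _).symm)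
  | add p q hp hq =>
    exact ((g.app U).hom.map_add p q).trans ((congrArg₂ (· + ·) hp hq).trans ((g'.app U).hom.map_add p q).symm)

/-- The functor. -/
def ptFunctor : X.Modules ⥤ PresheafOfModules.{u} A.obj where
  obj M := PT A φ M
  map f := PTmap A φ f
  map_id M := PTmap_ext A φ fun U m => rfl
  map_comp f g := PTmap_ext A φ fun U m => rfl

end Groth.Agent.AlgTensorLib
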